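/-
helper70: S5289 (rank two p-groups, p ≥ 5, are resistant).  Common data: a finite p-group `S ≤ Ω` of order `p^n`,
`n ≥ 4`, `p ≥ 5`, generated by `x, y, z` with `x^p = y^p = z^(p^(n-2)) = 1`, `yz = zy`,
`x⁻¹ y x = y c^e` (`c = z^(p^(n-3))`, `p ∤ e`) and `x⁻¹ z x = y^δ z`.
`δ = 0, e = 1` is Blackburn's group `C(p,n)`, `δ = 1` is `G(p,n;ε)`.
All declarations live in `Cfsg.Agent.Lib.Helper70.RkRes`.
-/
import Mathlib

set_option autoImplicit false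

namespace Cfsg.Agent.Lib.Helper70.RkRes

/-- The data of a rank two `p`-group of Blackburn's type `C(p,n)` (`δ = 0`) or `G(p,n;ε)` (`δ = 1`), `n ≥ 4`, `p ≥ 5`. -/
structure RData {Ω : Type*} [Group Ω] (p n : ℕ) (S : Subgroup Ω) (x y z : Ω) (δ e : ℕ) : Prop where
  hp5 : 5 ≤ p
  hn : 4 ≤ n
  he : ¬ p ∣ e
  gen : Subgroup.closure ({x, y, z} : Set Ω) = S
  card : Nat.card S = p ^ n
  xp : x ^ p = 1
  yp : y ^ p = 1
  zp : z ^ p ^ (n - 2) = 1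
  yz : y * z = z * y
  xy : x⁻¹ * y * x = y * z ^ (e * p ^ (n - 3))
  xz : x⁻¹ * z * x = y ^ δ * z

end Cfsg.Agent.Lib.Helper70.RkRes
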