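/-
helper70: S5289 project (rank two p-groups, p ≥ 5, are resistant) — module [NF] normal form and basic relations.
Proved by helper41 (Lib/Helper41/RkResNF.lean).  All declarations live in `Cfsg.Agent.Lib.Helper70.RkRes`.
-/
import Cfsg.Agent.Lib.Helper70.RkRes.Defs
import Cfsg.Agent.Lib.Helper41.RkResNF

set_option autoImplicit false

namespace Cfsg.Agent.Lib.Helper70.RkRes
open Cfsg

variable {Ω : Type*} [Group Ω] {p n : ℕ} [Fact p.Prime] {S : Subgroup Ω} {x y z : Ω} {δ e : ℕ}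

theorem mem_normal_form (D : RData p n S x y z δ e) : ∀ s ∈ S, ∃ i j k : ℕ, s = x ^ i * y ^ j * z ^ k :=
  Cfsg.Agent.Lib.Helper41.RkResNF.mem_normal_form D

theorem orderOf_z (D : RData p n S x y z δ e) : orderOf z = p ^ (n - 2) :=
  Cfsg.Agent.Lib.Helper41.RkResNF.orderOf_z D

theorem indep (D : RData p n S x y z δ e) : ∀ i j k : ℤ, x ^ i * y ^ j * z ^ k = 1 →
    (p : ℤ) ∣ i ∧ (p : ℤ) ∣ j ∧ ((p ^ (n - 2) : ℕ) : ℤ) ∣ k :=
  Cfsg.Agent.Lib.Helper41.RkResNF.indep D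

end Cfsg.Agent.Lib.Helper70.RkRes
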