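/-
helper70: S5289 project (rank two p-groups, p ≥ 5, are resistant) — module [NF2] basic relations (second part).
Proved by helper41 (Lib/Helper41/RkResNF2.lean).  All declarations live in `Cfsg.Agent.Lib.Helper70.RkRes`.
-/
import Cfsg.Agent.Lib.Helper70.RkRes.NF
import Cfsg.Agent.Lib.Helper41.RkResNF2

set_option autoImplicit false

namespace Cfsg.Agent.Lib.Helper70.RkRes
open Cfsg

variable {Ω : Type*} [Group Ω] {p n : ℕ} [Fact p.Prime] {S : Subgroup Ω} {x y z : Ω} {δ e : ℕ}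

theorem zpow_p_central (D : RData p n S x y z δ e) : ∀ s ∈ S, s * z ^ p = z ^ p * s :=
  Cfsg.Agent.Lib.Helper41.RkResNF2.zpow_p_central D

theorem conj_y (D : RData p n S x y z δ e) : ∀ s ∈ S, ∃ k : ℤ, y * s * y⁻¹ = s * (z ^ p ^ (n - 3)) ^ k :=
  Cfsg.Agent.Lib.Helper41.RkResNF2.conj_y D

theorem comm_mem (D : RData p n S x y z δ e) : ∀ s ∈ S, ∀ t ∈ S, ∃ j k : ℤ,
    s * t * s⁻¹ * t⁻¹ = y ^ j * (z ^ p ^ (n - 3)) ^ k :=
  Cfsg.Agent.Lib.Helper41.RkResNF2.comm_mem D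

theorem z_central (D : RData p n S x y z 0 e) : ∀ s ∈ S, s * z = z * s :=
  Cfsg.Agent.Lib.Helper41.RkResNF2.z_central D

theorem centralizer_xy (D : RData p n S x y z δ e) :
    ∀ s ∈ S, s * x = x * s → s * y = y * s → ∃ k : ℤ, s = z ^ k :=
  Cfsg.Agent.Lib.Helper41.RkResNF2.centralizer_xy D

end Cfsg.Agent.Lib.Helper70.RkRes
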