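/-
helper70: S5289 project (rank two p-groups, p ≥ 5, are resistant) — module [DIAG0] a diagonal element from two transvection groups.
Proved by helper76 (Lib/Helper76/RkResDiag0.lean).  All declarations live in `Cfsg.Agent.Lib.Helper70.RkRes`.
-/
import Cfsg.Agent.Lib.Helper76.RkResDiag0

set_option autoImplicit false

namespace Cfsg.Agent.Lib.Helper70.RkRes
open Cfsg

variable {Ω : Type*} [Group Ω] {p n : ℕ} [Fact p.Prime] {S : Subgroup Ω} {x y z : Ω} {δ e : ℕ}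

theorem exists_diag_bot {W : Type*} [Group W] [Finite W] (hp2 : p ≠ 2)
    (hWc : ∀ a b : W, a * b = b * a) (hWe : ∀ a : W, a ^ p = 1) (hcard : Nat.card W = p ^ 2)
    (G : Subgroup (MulAut W)) (t : MulAut W) (ht : t ∈ G) (a : ℕ) (hta : t ^ p ^ a = 1) (ht1 : t ≠ 1)
    (y : W) (hy1 : y ≠ 1) (hty : t y = y)
    (α : MulAut W) (hα : α ∈ G) (hαy : α y ∉ Subgroup.zpowers y) :
    ∃ τ ∈ G, τ * t * τ⁻¹ ∈ Subgroup.zpowers t ∧ ∀ w : W, ∃ k : ℤ, τ w = w ^ 2 * y ^ k :=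
  Cfsg.Agent.Lib.Helper76.RkResDiag0.exists_diag_bot hp2 hWc hWe hcard G t ht a hta ht1 y hy1 hty α hα hαy

end Cfsg.Agent.Lib.Helper70.RkRes
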