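/-
helper70: S5289 project (rank two p-groups, p ≥ 5, are resistant) — module [DIAGQ] the diagonal element on a quotient.
Proved by helper76 (Lib/Helper76/RkResDiagQ.lean).  All declarations live in `Cfsg.Agent.Lib.Helper70.RkRes`.
-/
import Cfsg.Agent.Lib.Helper70.RkRes.Diag0
import Cfsg.Agent.Lib.Helper76.RkResDiagQ

set_option autoImplicit false

namespace Cfsg.Agent.Lib.Helper70.RkRes
open Cfsg

variable {Ω : Type*} [Group Ω] {p n : ℕ} [Fact p.Prime] {S : Subgroup Ω} {x y z : Ω} {δ e : ℕ}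

theorem exists_diag_quot {R : Type*} [Group R] [Finite R] (hp2 : p ≠ 2)
    (G : Subgroup (MulAut R)) (Z : Subgroup R)
    (hZG : ∀ α ∈ G, ∀ w ∈ Z, α w ∈ Z)
    (hcomm : ∀ r s : R, r * s * r⁻¹ * s⁻¹ ∈ Z)
    (hexp : ∀ r : R, r ^ p ∈ Z)
    (hidx : Nat.card R = p ^ 2 * Nat.card Z)
    (t : MulAut R) (ht : t ∈ G) (a : ℕ) (hta : t ^ p ^ a = 1)
    (ht1 : ∃ r : R, r⁻¹ * t r ∉ Z)
    (y : R) (hyZ : y ∉ Z) (hty : y⁻¹ * t y ∈ Z)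
    (α : MulAut R) (hα : α ∈ G) (hαy : ∀ k : ℤ, (y ^ k)⁻¹ * α y ∉ Z) :
    ∃ τ ∈ G, (∃ k : ℕ, ∀ r : R, ((t ^ k) r)⁻¹ * (τ * t * τ⁻¹) r ∈ Z) ∧
      ∀ r : R, ∃ k : ℤ, (r ^ 2 * y ^ k)⁻¹ * τ r ∈ Z :=
  Cfsg.Agent.Lib.Helper76.RkResDiagQ.exists_diag_quot hp2 G Z hZG hcomm hexp hidx t ht a hta ht1 y hyZ hty α hα hαy

end Cfsg.Agent.Lib.Helper70.RkRes
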