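/-
helper70: S5289 project (rank two p-groups, p ≥ 5, are resistant) — module [AUTS] rigidity of automorphisms of G(p,n;ε).
Proved by helper14 (Lib/Helper14/RkResAutS.lean).  All declarations live in `Cfsg.Agent.Lib.Helper70.RkRes`.
-/
import Cfsg.Agent.Lib.Helper70.RkRes.NF2
import Cfsg.Agent.Lib.Helper14.RkResAutS

set_option autoImplicit false

namespace Cfsg.Agent.Lib.Helper70.RkRes
open Cfsg

variable {Ω : Type*} [Group Ω] {p n : ℕ} [Fact p.Prime] {S : Subgroup Ω} {x y z : Ω} {δ e : ℕ}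

theorem aut_rigid (D : RData p n S x y z 1 e) (χ : S →* Multiplicative (ZMod p))
    (hχ : ∀ (s : S) (i j k : ℤ), (s : Ω) = x ^ i * y ^ j * z ^ k → χ s = Multiplicative.ofAdd ((i : ZMod p)))
    (ψ : S →* Ω) (hψS : ∀ s, ψ s ∈ S) (hψi : Function.Injective ψ) :
    (∀ s : S, χ ⟨ψ s, hψS s⟩ = χ s) ∨ (∀ s : S, χ ⟨ψ s, hψS s⟩ = (χ s)⁻¹) :=
  Cfsg.Agent.Lib.Helper14.RkRes.aut_rigid D χ hχ ψ hψS hψi

end Cfsg.Agent.Lib.Helper70.RkRes
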