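/-
helper70: S5289 project (rank two p-groups, p ≥ 5, are resistant) — module [CHI] the x-exponent homomorphism.
Proved by helper25 (Lib/Helper25/RkResChi.lean).  All declarations live in `Cfsg.Agent.Lib.Helper70.RkRes`.
-/
import Cfsg.Agent.Lib.Helper70.RkRes.NF2
import Cfsg.Agent.Lib.Helper25.RkResChi

set_option autoImplicit false

namespace Cfsg.Agent.Lib.Helper70.RkRes
open Cfsg

variable {Ω : Type*} [Group Ω] {p n : ℕ} [Fact p.Prime] {S : Subgroup Ω} {x y z : Ω} {δ e : ℕ}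

theorem exists_chi (D : RData p n S x y z δ e) :
    ∃ χ : S →* Multiplicative (ZMod p),
      (∀ (s : S) (i j k : ℤ), (s : Ω) = x ^ i * y ^ j * z ^ k → χ s = Multiplicative.ofAdd ((i : ZMod p))) ∧
      (∀ s : S, χ s = 1 → (s : Ω) * z = z * s ∧ (s : Ω) * y = y * s) ∧
      (∀ s : S, (s : Ω) * y = y * s → χ s = 1) :=
  Cfsg.Agent.Lib.Helper25.RkRes.exists_chi D

end Cfsg.Agent.Lib.Helper70.RkRes
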