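/-
helper70: S5289 project (rank two p-groups, p ≥ 5, are resistant) — module [EXP3] the extraspecial group of order p³ and exponent p.
Proved by helper38 (Lib/Helper38/RkResExp3.lean).  All declarations live in `Cfsg.Agent.Lib.Helper70.RkRes`.
-/
import Cfsg.Agent.Lib.Helper38.RkResExp3

set_option autoImplicit false

namespace Cfsg.Agent.Lib.Helper70.RkRes
open Cfsg

variable {Ω : Type*} [Group Ω] {p n : ℕ} [Fact p.Prime] {S : Subgroup Ω} {x y z : Ω} {δ e : ℕ}

theorem exp_three {x y z : Ω} (hp2 : p ≠ 2) (hxp : x ^ p = 1) (hyp : y ^ p = 1) (hzp : z ^ p = 1)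
    (hxz : x * z = z * x) (hyz : y * z = z * y) (hxy : x⁻¹ * y * x = y * z) :
    ∀ s ∈ Subgroup.closure ({x, y, z} : Set Ω), s ^ p = 1 :=
  Cfsg.Agent.Lib.Helper38.RkRes.exp_three hp2 hxp hyp hzp hxz hyz hxy

end Cfsg.Agent.Lib.Helper70.RkRes
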