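/-
helper70: S5289 project (rank two p-groups, p ≥ 5, are resistant) — module [H1PURE] the maximal subgroup ⟨x, y, z^p⟩ of G(p,n;ε).
Proved by helper14 (Lib/Helper14/RkResH1Pure.lean).  All declarations live in `Cfsg.Agent.Lib.Helper70.RkRes`.
-/
import Cfsg.Agent.Lib.Helper70.RkRes.NF2
import Cfsg.Agent.Lib.Helper70.RkRes.DiagQ
import Cfsg.Agent.Lib.Helper87.FusionNormal
import Cfsg.Agent.Lib.Helper14.RkResH1Pure

set_option autoImplicit false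

namespace Cfsg.Agent.Lib.Helper70.RkRes
open Cfsg Cfsg.Agent.Lib.Helper87

variable {Ω : Type*} [Group Ω] {p n : ℕ} [Fact p.Prime] {S : Subgroup Ω} {x y z : Ω} {δ e : ℕ}

theorem h1_pure (D : RData p n S x y z 1 e) (R : Subgroup Ω) (hRS : R ≤ S) (hxR : x ∈ R) (hyR : y ∈ R)
    (hzpR : z ^ p ∈ R) (hzR : z ∉ R) (hzN : z ∈ Subgroup.normalizer (R : Set Ω))
    (A : Subgroup (MulAut R)) (hcz : conjAut R z hzN ∈ A) :
    ∃ N : Subgroup (MulAut R), N ≤ A ∧ (∀ α ∈ A, ∀ β ∈ N, α * β * α⁻¹ ∈ N) ∧ IsPGroup p N ∧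
      (conjAut R z hzN ∈ N ∨
        ∃ τ ∈ A, ∃ ν ∈ N, ∃ k : ℕ, τ * conjAut R z hzN * τ⁻¹ = ν * (conjAut R z hzN) ^ k ∧
          ∃ j l : ℤ, ((τ ⟨x, hxR⟩ : R) : Ω) = x ^ 2 * y ^ j * (z ^ p) ^ l) :=
  Cfsg.Agent.Lib.Helper14.RkRes.h1_pure D R hRS hxR hyR hzpR hzR hzN A hcz

end Cfsg.Agent.Lib.Helper70.RkRes
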