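/-
helper70: S5289 project — fusion glue, part 1: extension to `S` and the maximal subgroup `⟨x, y, z^p⟩` of `G(p,n;ε)`.
All declarations live in `Cfsg.Agent.Lib.Helper70.RkRes`.
-/
import Cfsg.Agent.Lib.Helper70.RkRes.Chi
import Cfsg.Agent.Lib.Helper70.RkRes.AutS
import Cfsg.Agent.Lib.Helper70.RkRes.H1Pure
import Cfsg.Agent.Lib.Helper87.FusionFrattini

set_option autoImplicit false
set_option linter.unusedSectionVars false

namespace Cfsg.Agent.Lib.Helper70.RkRes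
open Cfsg Cfsg.FusionSystem Cfsg.Agent.Lib.Helper87

variable {Ω : Type*} [Group Ω] {p n : ℕ} [Fact p.Prime] {S : Subgroup Ω} {x y z : Ω} {δ e : ℕ}

theorem x_mem (D : RData p n S x y z δ e) : x ∈ S := by
  rw [← D.gen]; exact Subgroup.subset_closure (by simp)

theorem y_mem (D : RData p n S x y z δ e) : y ∈ S := by
  rw [← D.gen]; exact Subgroup.subset_closure (by simp)

theorem z_mem (D : RData p n S x y z δ e) : z ∈ S := by
  rw [← D.gen]; exact Subgroup.subset_closure (by simp)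

theorem le_of_mem_xyz (D : RData p n S x y z δ e) {X : Subgroup Ω} (hx : x ∈ X) (hy : y ∈ X) (hz : z ∈ X) :
    S ≤ X := by
  rw [← D.gen, Subgroup.closure_le]
  intro g hg
  rcases hg with rfl | rfl | rfl
  · exact hx
  · exact hy
  · exact hz

/-- `c = z^(p^(n-3))` is a power of `z^p`. -/
theorem c_eq (D : RData p n S x y z δ e) : z ^ p ^ (n - 3) = (z ^ p) ^ p ^ (n - 4) := by
  have hn := D.hn
  rw [← pow_mul, ← pow_succ']
  congr 2
  omega

/-- Extension of an automorphism of a receptive subgroup all the way to `S`. -/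
theorem ext_top (F : FusionSystem S) {R : Subgroup Ω} (hRS : R ≤ S) (hRr : F.IsReceptive R)
    (τ : MulAut R) (hτ : τ ∈ F.autGroup R) (g : Ω) (hg : g ∈ normalizerIn S R)
    (hτg : τ * conjAut R g hg.2 * τ⁻¹ ∈ autInducedBy S R)
    (hgen : ∀ X : Subgroup Ω, R ≤ X → g ∈ X → S ≤ X) :
    ∃ ψ : S →* Ω, ψ ∈ F.Hom S ∧ ∀ (r : Ω) (hr : r ∈ R), ψ ⟨r, hRS hr⟩ = ((τ ⟨r, hr⟩ : R) : Ω) := by
  obtain ⟨X, ψ, hψ, hRX, hXN, hψτ, hXg⟩ := exists_extension_aut F hRS hRr τ hτ
  have hgX : g ∈ X := hXg g hg hτg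
  have hXS : X = S := le_antisymm (hXN.trans inf_le_left) (hgen X hRX hgX)
  subst hXS
  exact ⟨ψ, hψ, fun r hr => hψτ r hr (hRX hr)⟩

/-- The contradiction from rigidity: an `F`-automorphism of `S` cannot act as `2` on `S/A₀`. -/
theorem false_of_two (D : RData p n S x y z 1 e) (F : FusionSystem S) [Finite S] (ψ : S →* Ω) (hψ : ψ ∈ F.Hom S)
    (χ : S →* Multiplicative (ZMod p))
    (hχ : ∀ (s : S) (i j k : ℤ), (s : Ω) = x ^ i * y ^ j * z ^ k → χ s = Multiplicative.ofAdd ((i : ZMod p)))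
    (s : S) (hs : χ s ≠ 1) (hψs : χ ⟨ψ s, (F.le_of_mem hψ).2 s⟩ = (χ s) ^ 2) : False := by
  have hp5 := D.hp5
  have hpp : p.Prime := Fact.out
  rcases aut_rigid D χ hχ ψ (F.le_of_mem hψ).2 (F.injective_of_mem hψ) with h | h
  · have h1 := h s
    rw [hψs] at h1
    apply hs
    have : χ s * χ s = χ s * 1 := by rw [mul_one, ← pow_two]; exact h1
    exact mul_left_cancel this
  · have h1 := h s
    rw [hψs] at h1
    -- `(χ s)^3 = 1` and `(χ s)^p = 1`
    have h3 : χ s ^ 3 = 1 := by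
      rw [pow_succ, h1, inv_mul_cancel]
    have hpw : χ s ^ p = 1 := by
      have : ∀ a : Multiplicative (ZMod p), a ^ p = 1 := by
        intro a
        have : p • (Multiplicative.toAdd a) = 0 := by
          rw [nsmul_eq_mul]; simp
        exact congrArg Multiplicative.ofAdd this
      exact this _
    have hcop : Nat.Coprime 3 p := by
      rw [Nat.coprime_comm]
      exact (Nat.Prime.coprime_iff_not_dvd hpp).2 (fun hd => by
        have := Nat.le_of_dvd (by norm_num) hd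
        omega)
    apply hs
    have hord : orderOf (χ s) ∣ 1 := by
      have := Nat.dvd_gcd (orderOf_dvd_of_pow_eq_one h3) (orderOf_dvd_of_pow_eq_one hpw)
      rwa [hcop] at this
    exact orderOf_eq_one_iff.1 (Nat.dvd_one.1 hord)

/-- `R ∋ y, z^p` is normalized by every element of `S`. -/
theorem mem_normalizer_of_mem (D : RData p n S x y z δ e) {R : Subgroup Ω} (hyR : y ∈ R) (hzpR : z ^ p ∈ R)
    {g : Ω} (hg : g ∈ S) (hRS : R ≤ S) : g ∈ Subgroup.normalizer (R : Set Ω) := by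
  have hcR : z ^ p ^ (n - 3) ∈ R := by rw [c_eq D]; exact R.pow_mem hzpR _
  have key : ∀ g ∈ S, ∀ h ∈ R, g * h * g⁻¹ ∈ R := by
    intro g hg h hh
    obtain ⟨j, k, hjk⟩ := comm_mem D g hg h (hRS hh)
    have h1 : g * h * g⁻¹ = (g * h * g⁻¹ * h⁻¹) * h := by group
    rw [h1, hjk]
    exact R.mul_mem (R.mul_mem (R.zpow_mem hyR _) (R.zpow_mem hcR _)) hh
  rw [Subgroup.mem_normalizer_iff]
  intro h
  constructor
  · exact key g hg h
  · intro hh
    have := key g⁻¹ (S.inv_mem hg) _ hh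
    have h2 : g⁻¹ * (g * h * g⁻¹) * g⁻¹⁻¹ = h := by group
    rwa [h2] at this

/-- **The maximal subgroup `R = ⟨x, y, z^p⟩` of `G(p,n;ε)`**: `c_z` lies in a normal `p`-subgroup of `Aut_F(R)`. -/
theorem h1_glue (D : RData p n S x y z 1 e) [Finite S] (F : FusionSystem S)
    {R : Subgroup Ω} (hRa : F.IsFullyAutomized p R) (hRr : F.IsReceptive R) (hxR : x ∈ R) (hyR : y ∈ R)
    (hzpR : z ^ p ∈ R) (hzR : z ∉ R) :
    ∃ (hzN : z ∈ normalizerIn S R) (K : Subgroup (MulAut R)), K ≤ F.autGroup R ∧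
      (∀ α ∈ F.autGroup R, ∀ β ∈ K, α * β * α⁻¹ ∈ K) ∧ IsPGroup p K ∧ conjAut R z hzN.2 ∈ K := by
  have hRS : R ≤ S := hRa.1
  have hzS : z ∈ S := z_mem D
  have hzN : z ∈ normalizerIn S R := ⟨hzS, mem_normalizer_of_mem D hyR hzpR hzS hRS⟩
  have hczS : conjAut R z hzN.2 ∈ autInducedBy S R := mem_autInducedBy_iff.2 ⟨z, hzS, fun _ => rfl⟩
  have hcz : conjAut R z hzN.2 ∈ F.autGroup R := autInducedBy_le_autGroup F hRS hczS
  obtain ⟨N, hNle, hNn, hNp, hcase⟩ := h1_pure D R hRS hxR hyR hzpR hzR hzN.2 (F.autGroup R) hcz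
  rcases hcase with h | ⟨τ, hτ, ν, hν, k, hτz, j, l, hτx⟩
  · exact ⟨hzN, N, hNle, hNn, hNp, h⟩
  · exfalso
    have hNS : N ≤ autInducedBy S R := le_autInducedBy_of_normal_isPGroup F hRa N hNle hNn hNp
    have hτg : τ * conjAut R z hzN.2 * τ⁻¹ ∈ autInducedBy S R := by
      rw [hτz]
      exact Subgroup.mul_mem _ (hNS hν) (Subgroup.pow_mem _ hczS _)
    obtain ⟨ψ, hψ, hψτ⟩ := ext_top F hRS hRr τ hτ z hzN hτg
      (fun X hRX hzX => le_of_mem_xyz D (hRX hxR) (hRX hyR) hzX)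
    obtain ⟨χ, hχ, -, -⟩ := exists_chi D
    have hxS : x ∈ S := x_mem D
    have h1 : χ ⟨x, hxS⟩ = Multiplicative.ofAdd ((1 : ℤ) : ZMod p) := by
      apply hχ ⟨x, hxS⟩ 1 0 0
      simp
    have h2 : χ ⟨ψ ⟨x, hxS⟩, (F.le_of_mem hψ).2 _⟩ = Multiplicative.ofAdd ((2 : ℤ) : ZMod p) := by
      apply hχ _ 2 j (p * l)
      show ψ ⟨x, hxS⟩ = _
      rw [hψτ x hxR, hτx, zpow_mul, zpow_natCast]
      norm_cast
    refine false_of_two D F ψ hψ χ hχ ⟨x, hxS⟩ ?_ ?_
    · rw [h1]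
      intro h
      have h3 : ((1 : ℤ) : ZMod p) = 0 := by
        have := congrArg Multiplicative.toAdd h
        simp at this
      have hpp : p.Prime := Fact.out
      have : (1 : ZMod p) = 0 := by simp at h3
      exact one_ne_zero this
    · rw [h2, h1, ← ofAdd_nsmul]
      congr 1
      push_cast
      ring

end Cfsg.Agent.Lib.Helper70.RkRes
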