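/-
helper70: S5289 project (rank two p-groups, p ≥ 5, are resistant) — module [POW] the p-power map.
Proved by helper36 (Lib/Helper36/RkResPow.lean).  All declarations live in `Cfsg.Agent.Lib.Helper70.RkRes`.
-/
import Cfsg.Agent.Lib.Helper70.RkRes.NF2
import Cfsg.Agent.Lib.Helper36.RkResPow

set_option autoImplicit false

namespace Cfsg.Agent.Lib.Helper70.RkRes
open Cfsg

variable {Ω : Type*} [Group Ω] {p n : ℕ} [Fact p.Prime] {S : Subgroup Ω} {x y z : Ω} {δ e : ℕ}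

theorem pow_p_normal_form (D : RData p n S x y z δ e) :
    ∀ i j k : ℕ, (x ^ i * y ^ j * z ^ k) ^ p = (z ^ p) ^ k :=
  Cfsg.Agent.Lib.Helper36.RkResPow.pow_p_normal_form D

theorem pow_p_mul (D : RData p n S x y z δ e) : ∀ s ∈ S, ∀ t ∈ S, (s * t) ^ p = s ^ p * t ^ p :=
  Cfsg.Agent.Lib.Helper36.RkResPow.pow_p_mul D

theorem exists_omega (D : RData p n S x y z δ e) :
    ∃ E : Subgroup Ω, (∀ s, s ∈ E ↔ s ∈ S ∧ s ^ p = 1) ∧ Nat.card E = p ^ 3 :=
  Cfsg.Agent.Lib.Helper36.RkResPow.exists_omega D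

end Cfsg.Agent.Lib.Helper70.RkRes
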