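/-
helper70: S5289 project — fusion glue, part 2: small facts on `c = z^(p^(n-3))`, and the case of a self-centralizing
`Z_p × Z_p` in `G(p,4;ε)`.
All declarations live in `Cfsg.Agent.Lib.Helper70.RkRes`.
-/
import Cfsg.Agent.Lib.Helper70.RkRes.Glue1
import Cfsg.Agent.Lib.Helper70.RkRes.Pow
import Cfsg.Agent.Lib.Helper70.RkRes.Diag0
import Cfsg.Agent.Lib.Helper87.FusionFully

set_option autoImplicit false
set_option linter.unusedSectionVars false

namespace Cfsg.Agent.Lib.Helper70.RkRes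
open Cfsg Cfsg.FusionSystem Cfsg.Agent.Lib.Helper87

variable {Ω : Type*} [Group Ω] {p n : ℕ} [Fact p.Prime] {S : Subgroup Ω} {x y z : Ω} {δ e : ℕ}

theorem c_pow_p (D : RData p n S x y z δ e) : (z ^ p ^ (n - 3)) ^ p = 1 := by
  have hn := D.hn
  rw [← pow_mul, ← pow_succ, show n - 3 + 1 = n - 2 by omega]
  exact D.zp

theorem c_ne_one (D : RData p n S x y z δ e) : z ^ p ^ (n - 3) ≠ 1 := by
  have hn := D.hn
  have hpp : p.Prime := Fact.out
  intro h
  have h1 := orderOf_dvd_of_pow_eq_one h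
  rw [orderOf_z D] at h1
  have h2 := (Nat.pow_dvd_pow_iff_le_right hpp.one_lt).1 h1
  omega

theorem c_central (D : RData p n S x y z δ e) : ∀ s ∈ S, s * z ^ p ^ (n - 3) = z ^ p ^ (n - 3) * s := by
  intro s hs
  rw [c_eq D]
  exact ((Commute.pow_right (zpow_p_central D s hs) _ : Commute s ((z ^ p) ^ p ^ (n - 4)))).eq

/-- An element of order dividing `p` of `⟨z⟩` lies in `⟨c⟩`. -/
theorem mem_zpowers_c (D : RData p n S x y z δ e) {g : Ω} (hg : g ∈ Subgroup.zpowers z) (hgp : g ^ p = 1) :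
    g ∈ Subgroup.zpowers (z ^ p ^ (n - 3)) := by
  have hn := D.hn
  have hpp : p.Prime := Fact.out
  obtain ⟨m, rfl⟩ := Subgroup.mem_zpowers_iff.1 hg
  have h1 : z ^ (m * p) = 1 := by rw [zpow_mul, zpow_natCast]; exact hgp
  have h2 := (orderOf_dvd_iff_zpow_eq_one).2 h1
  rw [orderOf_z D] at h2
  have h3 : ((p ^ (n - 3) : ℕ) : ℤ) ∣ m := by
    have h4 : ((p ^ (n - 2) : ℕ) : ℤ) = ((p ^ (n - 3) : ℕ) : ℤ) * p := by
      rw [show n - 2 = n - 3 + 1 by omega, pow_succ]; push_cast; ring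
    rw [h4] at h2
    have hp0 : (p : ℤ) ≠ 0 := by exact_mod_cast hpp.ne_zero
    exact Int.dvd_of_mul_dvd_mul_right hp0 h2
  obtain ⟨q, rfl⟩ := h3
  rw [Subgroup.mem_zpowers_iff]
  exact ⟨q, by rw [zpow_mul, zpow_natCast]⟩

/-- A nontrivial element of `⟨c⟩` generates it. -/
theorem c_mem_zpowers (D : RData p n S x y z δ e) {w : Ω} (hw : w ∈ Subgroup.zpowers (z ^ p ^ (n - 3)))
    (hw1 : w ≠ 1) : z ^ p ^ (n - 3) ∈ Subgroup.zpowers w := by
  have hpp : p.Prime := Fact.out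
  obtain ⟨a, rfl⟩ := Subgroup.mem_zpowers_iff.1 hw
  have hcp := c_pow_p D
  have hcop : IsCoprime a (p : ℤ) := by
    rw [isCoprime_comm]
    refine (Prime.coprime_iff_not_dvd (Nat.prime_iff_prime_int.1 hpp)).2 ?_
    rintro ⟨b, rfl⟩
    apply hw1
    rw [zpow_mul, zpow_natCast, hcp, one_zpow]
  obtain ⟨u, v, huv⟩ := hcop
  rw [Subgroup.mem_zpowers_iff]
  refine ⟨u, ?_⟩
  rw [← zpow_mul]
  have : a * u = 1 - v * p := by linarith
  rw [this, zpow_sub, zpow_one, mul_comm v, zpow_mul, zpow_natCast, hcp, one_zpow, inv_one, mul_one]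

/-- An injective self-map of a finite subgroup belonging to the system is an automorphism of the system
(copy of `Helper87.exists_aut_of_maps_into'`, to keep the imports light). -/
theorem exists_aut_of_maps_into (F : FusionSystem S) {P : Subgroup Ω} [Finite P] {φ : P →* Ω}
    (hφ : φ ∈ F.Hom P) (hval : ∀ x : P, φ x ∈ P) :
    ∃ α : MulAut P, α ∈ F.autGroup P ∧ ∀ x : P, ((α x : P) : Ω) = φ x := by
  have hPS : P ≤ S := hom_le F hφ
  have hinj : Function.Injective (φ.codRestrict P hval) := by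
    intro a b hab
    apply F.injective_of_mem hφ
    exact congrArg (fun z : P => (z : Ω)) hab
  refine ⟨MulEquiv.ofBijective (φ.codRestrict P hval) (Finite.injective_iff_bijective.mp hinj), ?_,
    fun x => rfl⟩
  rw [mem_autGroup_iff F hPS]
  have : P.subtype.comp
      ((MulEquiv.ofBijective (φ.codRestrict P hval) (Finite.injective_iff_bijective.mp hinj) : P ≃* P) :
        P ≃* P).toMonoidHom = φ := by
    ext x
    rfl
  unfold IsIso
  rw [this]
  exact hφ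

theorem isFullyNormalized_of_normal (F : FusionSystem S) [Finite S] {Q : Subgroup Ω} (hQS : Q ≤ S)
    (hQN : ∀ g ∈ S, g ∈ Subgroup.normalizer (Q : Set Ω)) : F.IsFullyNormalized Q := by
  refine ⟨hQS, fun Q' _ => ?_⟩
  have hN : normalizerIn S Q = S := le_antisymm inf_le_left (fun g hg => ⟨hg, hQN g hg⟩)
  rw [hN]
  exact Nat.card_le_card_of_injective (Subgroup.inclusion inf_le_left) (Subgroup.inclusion_injective _)

/-- A subgroup containing `c` is normalized by `y`. -/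
theorem y_mem_normalizer (D : RData p n S x y z δ e) {R : Subgroup Ω} (hRS : R ≤ S)
    (hcR : z ^ p ^ (n - 3) ∈ R) : y ∈ Subgroup.normalizer (R : Set Ω) := by
  have key : ∀ r ∈ R, y * r * y⁻¹ ∈ R := by
    intro r hr
    obtain ⟨k, hk⟩ := conj_y D r (hRS hr)
    rw [hk]
    exact R.mul_mem hr (R.zpow_mem hcR _)
  have key' : ∀ r ∈ R, y⁻¹ * r * y ∈ R := by
    intro r hr
    have hr' : y⁻¹ * r * y ∈ S := S.mul_mem (S.mul_mem (S.inv_mem (y_mem D)) (hRS hr)) (y_mem D)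
    obtain ⟨k, hk⟩ := conj_y D _ hr'
    have h1 : y * (y⁻¹ * r * y) * y⁻¹ = r := by group
    rw [h1] at hk
    have h2 : y⁻¹ * r * y = r * ((z ^ p ^ (n - 3)) ^ k)⁻¹ := eq_mul_inv_of_mul_eq hk.symm
    rw [h2]
    exact R.mul_mem hr (R.inv_mem (R.zpow_mem hcR _))
  rw [Subgroup.mem_normalizer_iff]
  intro h
  constructor
  · exact key h
  · intro hh
    have := key' _ hh
    have h2 : y⁻¹ * (y * h * y⁻¹) * y = h := by group
    rwa [h2] at this

/-- **A self-centralizing `Z_p × Z_p` in `G(p,4;ε)` cannot carry an `F`-automorphism moving `⟨c⟩`.** -/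
theorem h2_false (D : RData p n S x y z 1 e) [Finite S] (hS : IsPGroup p S) (F : FusionSystem S)
    (hF : F.IsSaturated p) {R : Subgroup Ω} (hRa : F.IsFullyAutomized p R) (hRr : F.IsReceptive R)
    (hcen : ∀ g ∈ S, (∀ r ∈ R, g * r = r * g) → g ∈ R)
    (hexp : ∀ r ∈ R, r ^ p = 1)
    (E : Subgroup Ω) (hE : ∀ s, s ∈ E ↔ s ∈ S ∧ s ^ p = 1) (hEcard : Nat.card E = p ^ 3)
    (hER : ¬ E ≤ R) (hcR : z ^ p ^ (n - 3) ∈ R)
    (α : MulAut R) (hα : α ∈ F.autGroup R)
    (hαc : α ⟨z ^ p ^ (n - 3), hcR⟩ ∉ Subgroup.zpowers (⟨z ^ p ^ (n - 3), hcR⟩ : R)) : False := by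
  classical
  have hpp : p.Prime := Fact.out
  have hp5 := D.hp5
  have hn := D.hn
  have hRS : R ≤ S := hRa.1
  have hES : E ≤ S := fun s hs => ((hE s).1 hs).1
  have hRE : R ≤ E := fun r hr => (hE r).2 ⟨hRS hr, hexp r hr⟩
  have hfinE : Finite E := finite_of_le hES
  have hfinR : Finite R := finite_of_le hRS
  have hzS := z_mem D
  have hxS := x_mem D
  have hyS := y_mem D
  have hzpR : z ^ p ∈ R := hcen _ (S.pow_mem hzS p) (fun r hr => (zpow_p_central D r (hRS hr)).symm)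
  -- `n = 4`
  have hn4 : n = 4 := by
    have h1 : (z ^ p) ^ p = 1 := hexp _ hzpR
    rw [← pow_mul, ← pow_two] at h1
    have h2 := orderOf_dvd_of_pow_eq_one h1
    rw [orderOf_z D] at h2
    have := (Nat.pow_dvd_pow_iff_le_right hpp.one_lt).1 h2
    omega
  have hzp1 : z ^ p ≠ 1 := by
    intro h
    have h2 := orderOf_dvd_of_pow_eq_one h
    rw [orderOf_z D, hn4] at h2
    have h3 : p ^ 2 ∣ p ^ 1 := by simpa using h2
    have := (Nat.pow_dvd_pow_iff_le_right hpp.one_lt).1 h3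
    omega
  have hzR : z ∉ R := fun h => hzp1 (hexp z h)
  -- the element `c`
  obtain ⟨c', hc'⟩ : ∃ c' : R, c' = ⟨z ^ p ^ (n - 3), hcR⟩ := ⟨_, rfl⟩
  rw [← hc'] at hαc
  have hc'v : (c' : Ω) = z ^ p ^ (n - 3) := by rw [hc']
  have hc'1 : c' ≠ 1 := by
    intro h
    apply c_ne_one D
    rw [← hc'v, h]; rfl
  have hc'p : c' ^ p = 1 := by
    apply Subtype.ext
    rw [Subgroup.coe_pow, hc'v, c_pow_p D]; rfl
  -- `|R| = p²`
  have hRcard : Nat.card R = p ^ 2 := by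
    have h1 : Nat.card R ∣ p ^ 3 := hEcard ▸ Subgroup.card_dvd_of_le hRE
    obtain ⟨a, ha3, ha⟩ := (Nat.dvd_prime_pow hpp).1 h1
    have ha3' : a ≠ 3 := by
      intro h
      apply hER
      have : E ≤ R := by
        have := Subgroup.eq_of_le_of_card_ge hRE (by rw [hEcard, ha, h])
        rw [this]
      exact this
    have ha1 : ¬ a ≤ 1 := by
      intro h
      apply hαc
      have hord : orderOf c' = p := orderOf_eq_prime hc'p hc'1
      have hle : Nat.card R ≤ Nat.card (Subgroup.zpowers c') := by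
        rw [Nat.card_zpowers, hord, ha]
        calc p ^ a ≤ p ^ 1 := Nat.pow_le_pow_right hpp.pos h
          _ = p := pow_one p
      have htop : Subgroup.zpowers c' = ⊤ := Subgroup.eq_top_of_le_card _ hle
      rw [htop]; trivial
    have : a = 2 := by omega
    rw [ha, this]
  have hRp : IsPGroup p R := hS.to_le hRS
  have hWc : ∀ a b : R, a * b = b * a := fun a b => (IsPGroup.isMulCommutative_of_card_eq_prime_sq hRcard).is_comm.comm a b
  have hWe : ∀ a : R, a ^ p = 1 := fun a => Subtype.ext (by rw [Subgroup.coe_pow]; exact hexp a a.2)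
  -- the automorphism induced by `y`
  have hyN : y ∈ Subgroup.normalizer (R : Set Ω) := y_mem_normalizer D hRS hcR
  obtain ⟨t, ht⟩ : ∃ t : MulAut R, t = conjAut R y hyN := ⟨_, rfl⟩
  have htv : ∀ r : R, ((t r : R) : Ω) = y * (r : Ω) * y⁻¹ := fun r => by rw [ht]; rfl
  have htS : t ∈ autInducedBy S R := mem_autInducedBy_iff.2 ⟨y, hyS, htv⟩
  have htA : t ∈ F.autGroup R := autInducedBy_le_autGroup F hRS htS
  have htp : t ^ p ^ 1 = 1 := by
    ext r
    rw [pow_one, conj_pow_apply htv, D.yp]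
    simp
  obtain ⟨χ, hχ, hχ2, hχ3⟩ := exists_chi D
  have hzcen : (∀ (r : Ω) (hr : r ∈ R), χ ⟨r, hRS hr⟩ = 1) → False := by
    intro h
    apply hzR
    apply hcen z hzS
    intro r hr
    exact ((hχ2 ⟨r, hRS hr⟩ (h r hr)).1).symm
  have ht1 : t ≠ 1 := by
    intro h
    apply hzcen
    intro r hr
    apply hχ3
    show r * y = y * r
    have := htv ⟨r, hr⟩
    rw [h] at this
    have h2 : r = y * r * y⁻¹ := this
    calc r * y = (y * r * y⁻¹) * y := by rw [← h2]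
      _ = y * r := by group
  have htc : t c' = c' := by
    apply Subtype.ext
    rw [htv, hc'v, c_central D y hyS]
    group
  obtain ⟨τ, hτ, hτt, hτw⟩ := exists_diag_bot (p := p) (by omega) hWc hWe hRcard (F.autGroup R) t htA 1 htp ht1
    c' hc'1 htc α hα hαc
  have hyNS : y ∈ normalizerIn S R := ⟨hyS, hyN⟩
  have hτg : τ * conjAut R y hyNS.2 * τ⁻¹ ∈ autInducedBy S R := by
    have : Subgroup.zpowers t ≤ autInducedBy S R := (Subgroup.zpowers_le).2 htS
    rw [← ht]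
    exact this hτt
  obtain ⟨X, ψ₁, hψ₁, hRX, hXN, hψ₁τ, hXg⟩ := exists_extension_aut F hRS hRr τ hτ
  have hyX : y ∈ X := hXg y hyNS hτg
  have hyR : y ∉ R := by
    intro h
    apply ht1
    ext r
    rw [htv]
    have := congrArg (fun w : R => (w : Ω)) (hWc ⟨y, h⟩ r)
    simp only [Subgroup.coe_mul] at this
    rw [this]
    simp
  have hyE : y ∈ E := (hE y).2 ⟨hyS, D.yp⟩
  have hxE : x ∈ E := (hE x).2 ⟨hxS, D.xp⟩
  -- `E = R ⊔ ⟨y⟩ ≤ X`
  have hEX : E ≤ X := by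
    have hTE : R ⊔ Subgroup.zpowers y ≤ E := sup_le hRE ((Subgroup.zpowers_le).2 hyE)
    have hTX : R ⊔ Subgroup.zpowers y ≤ X := sup_le hRX ((Subgroup.zpowers_le).2 hyX)
    have hRT : R ≤ R ⊔ Subgroup.zpowers y := le_sup_left
    have hfinT : Finite ↥(R ⊔ Subgroup.zpowers y) := finite_of_le (hTE.trans hES)
    have h1 : Nat.card ↥(R ⊔ Subgroup.zpowers y) ∣ p ^ 3 := hEcard ▸ Subgroup.card_dvd_of_le hTE
    obtain ⟨b, hb3, hb⟩ := (Nat.dvd_prime_pow hpp).1 h1
    have hb2 : ¬ b ≤ 2 := by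
      intro h
      apply hyR
      have : R = R ⊔ Subgroup.zpowers y := by
        apply Subgroup.eq_of_le_of_card_ge hRT
        rw [hb, hRcard]
        exact Nat.pow_le_pow_right hpp.pos h
      rw [this]
      exact (le_sup_right : Subgroup.zpowers y ≤ R ⊔ Subgroup.zpowers y) (Subgroup.mem_zpowers y)
    have hb3' : b = 3 := by omega
    have : R ⊔ Subgroup.zpowers y = E := Subgroup.eq_of_le_of_card_ge hTE (by rw [hEcard, hb, hb3'])
    rw [← this]
    exact hTX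
  -- the restriction to `E` is an `F`-automorphism of `E`
  have hψE : ψ₁.comp (Subgroup.inclusion hEX) ∈ F.Hom E := restrict_mem F hψ₁ hEX
  have hvalE : ∀ s : E, (ψ₁.comp (Subgroup.inclusion hEX)) s ∈ E := by
    intro s
    refine (hE _).2 ⟨(F.le_of_mem hψE).2 s, ?_⟩
    rw [← map_pow]
    have : s ^ p = 1 := Subtype.ext (by rw [Subgroup.coe_pow]; exact ((hE s).1 s.2).2)
    rw [this, map_one]
  obtain ⟨αE, hαE, hαEv⟩ := exists_aut_of_maps_into F hψE hvalE
  -- `E` is normal in `S`, hence fully automized and receptive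
  have hEN : ∀ g ∈ S, g ∈ Subgroup.normalizer (E : Set Ω) := by
    have key : ∀ g ∈ S, ∀ h ∈ E, g * h * g⁻¹ ∈ E := by
      intro g hg h hh
      obtain ⟨h1, h2⟩ := (hE h).1 hh
      refine (hE _).2 ⟨S.mul_mem (S.mul_mem hg h1) (S.inv_mem hg), ?_⟩
      rw [conj_pow, h2]
      group
    intro g hg
    rw [Subgroup.mem_normalizer_iff]
    intro h
    constructor
    · exact key g hg h
    · intro hh
      have := key g⁻¹ (S.inv_mem hg) _ hh
      have h2 : g⁻¹ * (g * h * g⁻¹) * g⁻¹⁻¹ = h := by group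
      rwa [h2] at this
  obtain ⟨hEa, hEr⟩ := fullyAutomized_receptive_of_fullyNormalized F hS hF (isFullyNormalized_of_normal F hES hEN)
  have hzpE : z ^ p ∈ E := hRE hzpR
  have hzE : z ∉ E := fun h => hzp1 ((hE z).1 h).2
  obtain ⟨hzN, K, hKle, hKn, hKp, hczK⟩ := h1_glue D F hEa hEr hxE hyE hzpE hzE
  have hKS := le_autInducedBy_of_normal_isPGroup F hEa K hKle hKn hKp
  have hg : αE * conjAut E z hzN.2 * αE⁻¹ ∈ autInducedBy S E := hKS (hKn αE hαE _ hczK)
  obtain ⟨ψ, hψ, hψEv⟩ := ext_top F hES hEr αE hαE z hzN hg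
    (fun X' hEX' hzX' => le_of_mem_xyz D (hEX' hxE) (hEX' hyE) hzX')
  -- the contradiction
  have hcS : z ^ p ^ (n - 3) ∈ S := hRS hcR
  have hχc : χ ⟨z ^ p ^ (n - 3), hcS⟩ = 1 := by
    have := hχ ⟨z ^ p ^ (n - 3), hcS⟩ 0 0 ((p ^ (n - 3) : ℕ) : ℤ)
      (by rw [zpow_zero, zpow_zero, one_mul, one_mul, zpow_natCast])
    rw [this]
    simp
  apply hzcen
  intro r hr
  by_contra hne
  refine false_of_two D F ψ hψ χ hχ ⟨r, hRS hr⟩ hne ?_
  obtain ⟨k, hk⟩ := hτw ⟨r, hr⟩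
  have h1 : ψ ⟨r, hRS hr⟩ = r ^ 2 * (z ^ p ^ (n - 3)) ^ k := by
    have e1 : ψ ⟨r, hES (hRE hr)⟩ = ((αE ⟨r, hRE hr⟩ : E) : Ω) := hψEv r (hRE hr)
    have e2 : ((αE ⟨r, hRE hr⟩ : E) : Ω) = ψ₁ ⟨r, hEX (hRE hr)⟩ := hαEv ⟨r, hRE hr⟩
    have e3 : ψ₁ ⟨r, hRX hr⟩ = ((τ ⟨r, hr⟩ : R) : Ω) := hψ₁τ r hr (hRX hr)
    rw [e1, e2, e3, hk, Subgroup.coe_mul, Subgroup.coe_pow, Subgroup.coe_zpow, hc'v]
  have h2 : (⟨ψ ⟨r, hRS hr⟩, (F.le_of_mem hψ).2 _⟩ : S) = ⟨r, hRS hr⟩ ^ 2 * ⟨z ^ p ^ (n - 3), hcS⟩ ^ k := by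
    apply Subtype.ext
    rw [Subgroup.coe_mul, Subgroup.coe_pow, Subgroup.coe_zpow]
    exact h1
  rw [h2, map_mul, map_pow, map_zpow, hχc, one_zpow, mul_one]

end Cfsg.Agent.Lib.Helper70.RkRes
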