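/-
helper70: S5289 project (rank two p-groups, p ≥ 5, are resistant) — module [PCLOSED] p-closed automorphism groups from a chain with cyclic factors.
Proved by helper38 (Lib/Helper38/RkResPClosed.lean).  All declarations live in `Cfsg.Agent.Lib.Helper70.RkRes`.
-/
import Cfsg.Agent.Lib.Helper38.RkResPClosed

set_option autoImplicit false

namespace Cfsg.Agent.Lib.Helper70.RkRes
open Cfsg

variable {Ω : Type*} [Group Ω] {p n : ℕ} [Fact p.Prime] {S : Subgroup Ω} {x y z : Ω} {δ e : ℕ}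

theorem pclosed_of_chain {R : Type*} [Group R] [Finite R] (hR : IsPGroup p R)
    (A : Subgroup (MulAut R))
    (hpow : ∀ r s : R, (r * s) ^ p = r ^ p * s ^ p)
    (z₀ : R) (hz₀ : ∀ r : R, r ^ p ∈ Subgroup.zpowers z₀)
    (u : R) (hu1 : u ≠ 1) (hup : u ^ p = 1) (huA : ∀ α ∈ A, α u ∈ Subgroup.zpowers u)
    (W : Subgroup R) (hW : ∀ r, r ∈ W ↔ r ^ p = 1) (hWcard : Nat.card W ≤ p ^ 2) :
    ∃ K : Subgroup (MulAut R), K ≤ A ∧ (∀ α ∈ A, ∀ β ∈ K, α * β * α⁻¹ ∈ K) ∧ IsPGroup p K ∧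
      ∀ β ∈ A, (∃ k : ℕ, β ^ p ^ k = 1) → β ∈ K :=
  Cfsg.Agent.Lib.Helper38.RkRes.pclosed_of_chain hR A hpow z₀ hz₀ u hu1 hup huA W hW hWcard

end Cfsg.Agent.Lib.Helper70.RkRes
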