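/-
helper70: S5289 project — fusion glue, part 3: the local step for the groups `C(p,n)` and `G(p,n;ε)`.
All declarations live in `Cfsg.Agent.Lib.Helper70.RkRes`.
-/
import Cfsg.Agent.Lib.Helper70.RkRes.Glue2
import Cfsg.Agent.Lib.Helper70.RkRes.PClosed

set_option autoImplicit false
set_option linter.unusedSectionVars false

namespace Cfsg.Agent.Lib.Helper70.RkRes
open Cfsg Cfsg.FusionSystem Cfsg.Agent.Lib.Helper87

variable {Ω : Type*} [Group Ω] {p n : ℕ} [Fact p.Prime] {S : Subgroup Ω} {x y z : Ω} {δ e : ℕ}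

/-- If `R` (containing `c`) has an element whose `p`-th power is not `1`, every automorphism of `R` preserves `⟨c⟩`. -/
theorem aut_c_mem (D : RData p n S x y z δ e) [Finite S] (hS : IsPGroup p S) {R : Subgroup Ω} (hRS : R ≤ S)
    (hcR : z ^ p ^ (n - 3) ∈ R) (r : Ω) (hr : r ∈ R) (hrp : r ^ p ≠ 1) (α : MulAut R) :
    α ⟨z ^ p ^ (n - 3), hcR⟩ ∈ Subgroup.zpowers (⟨z ^ p ^ (n - 3), hcR⟩ : R) := by
  have hpp : p.Prime := Fact.out
  have hzS := z_mem D
  -- `p`-th powers of elements of `S` lie in `⟨z⟩`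
  have hpw : ∀ s ∈ S, s ^ p ∈ Subgroup.zpowers z := by
    intro s hs
    obtain ⟨i, j, k, rfl⟩ := mem_normal_form D s hs
    rw [pow_p_normal_form D, ← pow_mul]
    exact Subgroup.pow_mem _ (Subgroup.mem_zpowers z) _
  -- the order of `r`
  obtain ⟨m, hm⟩ : ∃ m : ℕ, orderOf r = p ^ m := by
    obtain ⟨k, hk⟩ := hS ⟨r, hRS hr⟩
    have hk' : r ^ p ^ k = 1 := by
      have := congrArg Subtype.val hk
      simpa using this
    obtain ⟨m, -, hm⟩ := (Nat.dvd_prime_pow hpp).1 (orderOf_dvd_of_pow_eq_one hk')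
    exact ⟨m, hm⟩
  have hm2 : 2 ≤ m := by
    by_contra h
    apply hrp
    have : orderOf r ∣ p := by
      rw [hm]
      have hm1 : m ≤ 1 := by omega
      calc p ^ m ∣ p ^ 1 := pow_dvd_pow p hm1
        _ = p := pow_one p
    exact orderOf_dvd_iff_pow_eq_one.1 this
  -- `w = r^(p^(m-1))` has order `p` and is a `p^(m-2)`-th power of `r^p`
  have hw1 : r ^ p ^ (m - 1) ≠ 1 := by
    intro h
    have h1 := orderOf_dvd_of_pow_eq_one h
    rw [hm] at h1
    have := (Nat.pow_dvd_pow_iff_le_right hpp.one_lt).1 h1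
    omega
  have hsplit : ∀ g : Ω, g ^ p ^ (m - 1) = (g ^ p) ^ p ^ (m - 2) := by
    intro g
    rw [← pow_mul, ← pow_succ', show m - 2 + 1 = m - 1 by omega]
  have hord : ∀ g : Ω, g ^ p ^ m = 1 → (g ^ p ^ (m - 1)) ^ p = 1 := by
    intro g hg
    rw [← pow_mul, ← pow_succ, show m - 1 + 1 = m by omega]
    exact hg
  have hrm : r ^ p ^ m = 1 := by rw [← hm]; exact pow_orderOf_eq_one r
  have hwc : r ^ p ^ (m - 1) ∈ Subgroup.zpowers (z ^ p ^ (n - 3)) := by
    apply mem_zpowers_c D _ (hord r hrm)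
    rw [hsplit]
    exact Subgroup.pow_mem _ (hpw r (hRS hr)) _
  obtain ⟨a, ha⟩ := Subgroup.mem_zpowers_iff.1 (c_mem_zpowers D hwc hw1)
  -- the image
  obtain ⟨r', hr'⟩ : ∃ r' : R, r' = α ⟨r, hr⟩ := ⟨_, rfl⟩
  have hr'm : (r' : Ω) ^ p ^ m = 1 := by
    have : (⟨r, hr⟩ : R) ^ p ^ m = 1 := Subtype.ext (by rw [Subgroup.coe_pow]; exact hrm)
    have h2 : r' ^ p ^ m = 1 := by rw [hr', ← map_pow, this, map_one]
    have := congrArg (fun w : R => (w : Ω)) h2
    simpa using this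
  have hw'c : (r' : Ω) ^ p ^ (m - 1) ∈ Subgroup.zpowers (z ^ p ^ (n - 3)) := by
    apply mem_zpowers_c D _ (hord _ hr'm)
    rw [hsplit]
    exact Subgroup.pow_mem _ (hpw _ (hRS r'.2)) _
  have himg : α ⟨z ^ p ^ (n - 3), hcR⟩ = (r' ^ p ^ (m - 1)) ^ a := by
    have : (⟨z ^ p ^ (n - 3), hcR⟩ : R) = (⟨r, hr⟩ ^ p ^ (m - 1)) ^ a := by
      apply Subtype.ext
      rw [Subgroup.coe_zpow, Subgroup.coe_pow]
      exact ha.symm
    rw [this, map_zpow, map_pow, hr']
  rw [himg]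
  obtain ⟨b, hb⟩ := Subgroup.mem_zpowers_iff.1 hw'c
  rw [Subgroup.mem_zpowers_iff]
  refine ⟨b * a, ?_⟩
  apply Subtype.ext
  rw [Subgroup.coe_zpow, Subgroup.coe_zpow, Subgroup.coe_pow, zpow_mul]
  show ((z ^ p ^ (n - 3)) ^ b) ^ a = _
  rw [hb]

/-- **The local step** for the groups `C(p,n)` (`δ = 0`) and `G(p,n;ε)` (`δ = 1`). -/
theorem local_step (D : RData p n S x y z δ e) (hδ : δ = 0 ∨ δ = 1) [Finite S] (hS : IsPGroup p S)
    (F : FusionSystem S) (hF : F.IsSaturated p)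
    (R : Subgroup Ω) (hRa : F.IsFullyAutomized p R) (hRr : F.IsReceptive R) (hSR : ¬ S ≤ R) :
    ∃ K : Subgroup (MulAut R), K ≤ F.autGroup R ∧ (∀ α ∈ F.autGroup R, ∀ β ∈ K, α * β * α⁻¹ ∈ K) ∧
      IsPGroup p K ∧ ∃ (g : Ω) (hg : g ∈ normalizerIn S R), g ∉ R ∧ conjAut R g hg.2 ∈ K := by
  classical
  have hpp : p.Prime := Fact.out
  have hp5 := D.hp5
  have hn := D.hn
  have hRS : R ≤ S := hRa.1
  have hfinR : Finite R := finite_of_le hRS
  have hzS := z_mem D
  have hxS := x_mem D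
  have hyS := y_mem D
  -- an element of `N_S(R)` outside `R`
  obtain ⟨x₀, hx₀S, hx₀N, hx₀R⟩ := exists_mem_normalizer_not_mem hS (le_refl S) hRS
    (fun g hg x hx => S.mul_mem (S.mul_mem hg hx) (S.inv_mem hg)) hSR
  have hx₀NS : x₀ ∈ normalizerIn S R := ⟨hx₀S, hx₀N⟩
  have hcA : ∀ (g : Ω) (hg : g ∈ normalizerIn S R), conjAut R g hg.2 ∈ F.autGroup R :=
    fun g hg => autInducedBy_le_autGroup F hRS (mem_autInducedBy_iff.2 ⟨g, hg.1, fun _ => rfl⟩)
  -- the non-centric case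
  by_cases hcen : ∀ g ∈ S, (∀ r ∈ R, g * r = r * g) → g ∈ R
  swap
  · push Not at hcen
    obtain ⟨g, hgS, hgc, hgR⟩ := hcen
    have hgc' : ∀ r ∈ R, g⁻¹ * r = r * g⁻¹ := by
      intro r hr
      have := hgc r hr
      calc g⁻¹ * r = g⁻¹ * (r * g) * g⁻¹ := by group
        _ = g⁻¹ * (g * r) * g⁻¹ := by rw [this]
        _ = r * g⁻¹ := by group
    have hgN : g ∈ Subgroup.normalizer (R : Set Ω) := by
      rw [Subgroup.mem_normalizer_iff]
      intro h
      constructor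
      · intro hh
        rw [hgc h hh]; simpa using hh
      · intro hh
        have h1 := hgc' _ hh
        have h2 : h = g⁻¹ * (g * h * g⁻¹) * g := by group
        rw [h2, h1]
        simpa using hh
    refine ⟨⊥, bot_le, ?_, IsPGroup.of_bot, g, ⟨hgS, hgN⟩, hgR, ?_⟩
    · intro α _ β hβ
      rw [Subgroup.mem_bot] at hβ ⊢
      rw [hβ, mul_one, mul_inv_cancel]
    · rw [Subgroup.mem_bot]
      ext r
      show g * (r : Ω) * g⁻¹ = r
      rw [hgc r r.2]; group
  -- the centric case: `z^p, c ∈ R`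
  have hzpR : z ^ p ∈ R := hcen _ (S.pow_mem hzS p) (fun r hr => (zpow_p_central D r (hRS hr)).symm)
  have hcR : z ^ p ^ (n - 3) ∈ R := by rw [c_eq D]; exact R.pow_mem hzpR _
  obtain ⟨E, hE, hEcard⟩ := exists_omega D
  have hES : E ≤ S := fun s hs => ((hE s).1 hs).1
  have hfinE : Finite E := finite_of_le hES
  have hxE : x ∈ E := (hE x).2 ⟨hxS, D.xp⟩
  have hyE : y ∈ E := (hE y).2 ⟨hyS, D.yp⟩
  by_cases hER : E ≤ R
  · have hxR := hER hxE
    have hyR := hER hyE
    rcases hδ with rfl | rfl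
    · exfalso
      apply hSR
      have hzR : z ∈ R := hcen z hzS (fun r hr => (z_central D r (hRS hr)).symm)
      exact le_of_mem_xyz D hxR hyR hzR
    · have hzR : z ∉ R := fun h => hSR (le_of_mem_xyz D hxR hyR h)
      obtain ⟨hzN, K, hKle, hKn, hKp, hcz⟩ := h1_glue D F hRa hRr hxR hyR hzpR hzR
      exact ⟨K, hKle, hKn, hKp, z, hzN, hzR, hcz⟩
  · have hRp : IsPGroup p R := hS.to_le hRS
    have hpow : ∀ r s : R, (r * s) ^ p = r ^ p * s ^ p := by
      intro r s
      apply Subtype.ext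
      simp only [Subgroup.coe_pow, Subgroup.coe_mul]
      exact pow_p_mul D r (hRS r.2) s (hRS s.2)
    have hz₀ : ∀ r : R, r ^ p ∈ Subgroup.zpowers (⟨z ^ p, hzpR⟩ : R) := by
      intro r
      obtain ⟨i, j, k, hijk⟩ := mem_normal_form D r (hRS r.2)
      rw [Subgroup.mem_zpowers_iff]
      refine ⟨k, Subtype.ext ?_⟩
      rw [Subgroup.coe_zpow, Subgroup.coe_pow, hijk, pow_p_normal_form D, zpow_natCast]
    obtain ⟨u, hu⟩ : ∃ u : R, u = ⟨z ^ p ^ (n - 3), hcR⟩ := ⟨_, rfl⟩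
    have huv : (u : Ω) = z ^ p ^ (n - 3) := by rw [hu]
    have hu1 : u ≠ 1 := by
      intro h
      apply c_ne_one D
      rw [← huv, h]; rfl
    have hup : u ^ p = 1 := by
      apply Subtype.ext
      rw [Subgroup.coe_pow, huv, c_pow_p D]; rfl
    have hW : ∀ r : R, r ∈ E.subgroupOf R ↔ r ^ p = 1 := by
      intro r
      rw [Subgroup.mem_subgroupOf, hE]
      constructor
      · intro h
        apply Subtype.ext
        rw [Subgroup.coe_pow]; exact h.2
      · intro h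
        refine ⟨hRS r.2, ?_⟩
        have := congrArg (fun w : R => (w : Ω)) h
        simpa using this
    have hWcard : Nat.card (E.subgroupOf R) ≤ p ^ 2 := by
      have h1 : Nat.card (E.subgroupOf R) = Nat.card ↥(E ⊓ R) := by
        rw [← Subgroup.inf_subgroupOf_right]
        exact Nat.card_congr (Subgroup.subgroupOfEquivOfLe inf_le_right).toEquiv
      rw [h1]
      have hle : E ⊓ R ≤ E := inf_le_left
      have h2 : Nat.card ↥(E ⊓ R) ∣ p ^ 3 := hEcard ▸ Subgroup.card_dvd_of_le hle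
      obtain ⟨a, ha3, ha⟩ := (Nat.dvd_prime_pow hpp).1 h2
      have ha3' : a ≠ 3 := by
        intro h
        apply hER
        have := Subgroup.eq_of_le_of_card_ge hle (by rw [hEcard, ha, h])
        rw [← this]
        exact inf_le_right
      rw [ha]
      exact Nat.pow_le_pow_right hpp.pos (by omega)
    by_cases huA : ∀ α ∈ F.autGroup R, α u ∈ Subgroup.zpowers u
    · obtain ⟨K, hKle, hKn, hKp, hKall⟩ := pclosed_of_chain hRp (F.autGroup R) hpow ⟨z ^ p, hzpR⟩ hz₀ u hu1 hup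
        huA (E.subgroupOf R) hW hWcard
      refine ⟨K, hKle, hKn, hKp, x₀, hx₀NS, hx₀R, hKall _ (hcA x₀ hx₀NS) ?_⟩
      obtain ⟨k, hk⟩ := hS ⟨x₀, hx₀S⟩
      refine ⟨k, ?_⟩
      ext r
      rw [conj_pow_apply (g := x₀) (fun _ => rfl)]
      have : x₀ ^ p ^ k = 1 := by
        have := congrArg Subtype.val hk
        simpa using this
      simp [this]
    · exfalso
      push Not at huA
      obtain ⟨α, hα, hαu⟩ := huA
      have hexp : ∀ r ∈ R, r ^ p = 1 := by
        intro r hr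
        by_contra hrp
        apply hαu
        rw [hu]
        exact aut_c_mem D hS hRS hcR r hr hrp α
      rcases hδ with rfl | rfl
      · have hzR : z ∈ R := hcen z hzS (fun r hr => (z_central D r (hRS hr)).symm)
        have h1 := hexp z hzR
        have h2 := orderOf_dvd_of_pow_eq_one h1
        rw [orderOf_z D] at h2
        have h3 : p ^ (n - 2) ∣ p ^ 1 := by simpa using h2
        have := (Nat.pow_dvd_pow_iff_le_right hpp.one_lt).1 h3
        omega
      · rw [hu] at hαu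
        exact h2_false D hS F hF hRa hRr hcen hexp E hE hEcard hER hcR α hα hαu

end Cfsg.Agent.Lib.Helper70.RkRes
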